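import Cfsg.Agent.H316.VZ.RadCore

/-!
# `O_{p'}(C_D(wz)) = ⟨wz⟩` for the isolated involution `z` (helper393)

`M5.Rad p z x N f`, `A` of type `J₂`, `w ≠ z` an involution of `C_D(z)`.

* `normal_cases` : a normal subgroup of `2^{1+4}.A₅` contains all `v i` or lies in `⟨t⟩`;
* `fix_le` : four elements anticommuting on `C_S(T) / ⟨x⟩` : `C_S(T) ≤ ⟨x⟩`;
* `not_both` : `|C_S(w)|` and `|C_S(wz)|` do not both divide `p⁴`;
* `core_cent` : a normal `p'`-subgroup of `C_D(wz)` is in `⟨wz⟩`.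
-/

set_option autoImplicit false
set_option linter.unusedSectionVars false

namespace Cfsg.Agent.H393.BF

open Subgroup Cfsg Cfsg.Agent.BpTab Cfsg.Agent.BpSpor Cfsg.Agent.BpSpor.B5
open Cfsg.Agent.J2Type.Model Cfsg.Agent.KFacts.J2.Basic Cfsg.Agent.J2Type.CStruct
open Cfsg.Agent.KFacts.QMinus (permHom range_permHom ker_permHom permHom_apply)

universe u v

/-! ### Normal subgroups of `2^{1+4}.A₅` -/

theorem exists_even_two {i j k l : Fin 5} (hij : i ≠ j) (hkl : k ≠ l) :
    ∃ σ : Equiv.Perm (Fin 5), Equiv.Perm.sign σ = 1 ∧ σ i = k ∧ σ j = l := by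
  obtain ⟨σ, h1, h2⟩ : ∃ σ : Equiv.Perm (Fin 5), σ i = k ∧ σ j = l := by
    refine ⟨Equiv.swap l (Equiv.swap i k j) * Equiv.swap i k, ?_, ?_⟩
    · rw [Equiv.Perm.mul_apply, Equiv.swap_apply_left]
      refine Equiv.swap_apply_of_ne_of_ne hkl fun h => ?_
      exact hij ((Equiv.swap i k).injective ((Equiv.swap_apply_left i k).trans h))
    · rw [Equiv.Perm.mul_apply, Equiv.swap_apply_right]
  obtain ⟨a, b, hab, hak, hal, hbk, hbl⟩ : ∃ a b : Fin 5, a ≠ b ∧ a ≠ k ∧ a ≠ l ∧ b ≠ k ∧ b ≠ l := by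
    exact (by decide : ∀ k l : Fin 5, k ≠ l → ∃ a b : Fin 5, a ≠ b ∧ a ≠ k ∧ a ≠ l ∧ b ≠ k ∧ b ≠ l) k l hkl
  rcases Int.units_eq_one_or (Equiv.Perm.sign σ) with h | h
  · exact ⟨σ, h, h1, h2⟩
  · refine ⟨Equiv.swap a b * σ, ?_, ?_, ?_⟩
    · rw [map_mul, h, Equiv.Perm.sign_swap hab]; rfl
    · rw [Equiv.Perm.mul_apply, h1, Equiv.swap_apply_of_ne_of_ne hak.symm hbk.symm]
    · rw [Equiv.Perm.mul_apply, h2, Equiv.swap_apply_of_ne_of_ne hal.symm hbl.symm]

section model

variable {C : Type*} [Group C] {Q : Subgroup C} {t : C} {v : Fin 5 → C} {ρ : C →* SP}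

theorem exists_perm (M : IsModel Q t v ρ) {σ : Equiv.Perm (Fin 5)} (hσ : Equiv.Perm.sign σ = 1) :
    ∃ c, (ρ c).σ = σ := by
  have h1 : σ ∈ (permHom ρ).range := by
    rw [range_permHom M]
    exact Equiv.Perm.mem_alternatingGroup.2 hσ
  obtain ⟨c, hc⟩ := h1
  exact ⟨c, hc⟩

/-- **Normal subgroups** contain all `v i` or lie in `⟨t⟩`. -/
theorem normal_cases (M : IsModel Q t v ρ) (Y : Subgroup C) [hY : Y.Normal] (hQ : Group.IsSolvable ↥Q) :
    (∀ i, v i ∈ Y) ∨ ∀ y ∈ Y, y = 1 ∨ y = t := by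
  by_cases hs : Group.IsSolvable ↥Y
  swap
  · exact Or.inl fun i => v_mem_of_not_solvable M Y hs hQ i
  -- `Y ≤ Q`
  have hYQ : Y ≤ Q := by
    have hle : ∀ c, permHom ρ c ∈ alternatingGroup (Fin 5) := by
      intro c
      rw [← range_permHom M]
      exact ⟨c, rfl⟩
    let g : C →* ↥(alternatingGroup (Fin 5)) := (permHom ρ).codRestrict _ hle
    have hg : Function.Surjective g := by
      rintro ⟨σ, hσ⟩
      rw [← range_permHom M] at hσ
      obtain ⟨c, hc⟩ := hσ
      exact ⟨c, Subtype.ext hc⟩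
    have hgk : ∀ c, g c = 1 ↔ c ∈ Q := by
      intro c
      rw [← ker_permHom M, MonoidHom.mem_ker]
      exact Subtype.ext_iff
    have hsimp : IsSimpleGroup ↥(alternatingGroup (Fin 5)) := alternatingGroup.isSimpleGroup (by simp)
    have h1 : (Y.map g).Normal := hY.map g hg
    rcases h1.eq_bot_or_eq_top with h2 | h2
    · intro y hy
      rw [← hgk]
      have h4 : g y ∈ Y.map g := mem_map_of_mem g hy
      rw [h2] at h4
      exact mem_bot.1 h4
    · exfalso
      have h3 : Group.IsSolvable ↥(Y.map g) := Group.isSolvable_of_surjective (g.subgroupMap_surjective Y)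
      rw [h2] at h3
      have h4 : Group.IsSolvable ↥(alternatingGroup (Fin 5)) :=
        Group.isSolvable_of_surjective (f := (topEquiv (G := ↥(alternatingGroup (Fin 5)))).toMonoidHom) topEquiv.surjective
      have h5 : Nat.card ↥(alternatingGroup (Fin 5)) = 60 := by
        rw [nat_card_alternatingGroup, Nat.card_eq_fintype_card, Fintype.card_fin]
        rfl
      have h6 := IsSimpleGroup.comm_iff_isSolvable.2 h4
      let _ : CommGroup ↥(alternatingGroup (Fin 5)) :=
        { (inferInstance : Group ↥(alternatingGroup (Fin 5))) with mul_comm := h6 }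
      have h7 : (Nat.card ↥(alternatingGroup (Fin 5))).Prime := IsSimpleGroup.prime_card
      rw [h5] at h7
      revert h7
      norm_num
  by_contra hcon
  push Not at hcon
  obtain ⟨⟨i0, hi0⟩, y, hy, hy1, hyt⟩ := hcon
  apply hi0
  -- `t ∈ Y` from a non-commuting pair
  have hvi : ∀ i, (v i)⁻¹ = v i := fun i => inv_eq_of_mul_eq_one_left (M.v_sq i)
  have hvt : ∀ i j, i ≠ j → v i * v j * (v i)⁻¹ = t * v j := by
    intro i j hij
    rw [M.v_anti i j hij, hvi]
    calc t * (v j * v i) * v i = t * (v j * (v i * v i)) := by group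
      _ = t * v j := by rw [M.v_sq, mul_one]
  have htc := M.z_comm
  have hzp : ∀ a, t ∈ Y → zp t a ∈ Y := fun a h => zp_mem Y t h a
  -- a conjugate by `v k`
  have key : ∀ (q : C) (k : Fin 5), q ∈ Y → v k * q * (v k)⁻¹ = t * q → t ∈ Y := by
    intro q k hq h
    have h1 := Y.mul_mem (hY.conj_mem q hq (v k)) (Y.inv_mem hq)
    rw [h, mul_assoc, mul_inv_cancel, mul_one] at h1
    exact h1
  have hzc : ∀ (a : ZMod 2) (k : Fin 5) (q : C), v k * (zp t a * q) * (v k)⁻¹ = zp t a * (v k * q * (v k)⁻¹) := by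
    intro a k q
    have h1 := zp_comm t htc a (v k)
    calc v k * (zp t a * q) * (v k)⁻¹ = (v k * zp t a) * q * (v k)⁻¹ := by group
      _ = zp t a * (v k * q * (v k)⁻¹) := by rw [h1]; group
  -- all `v i` from one
  have one : ∀ i, t ∈ Y → v i ∈ Y → ∀ j, v j ∈ Y := by
    intro i ht hi j
    obtain ⟨σ, hσ, hσi⟩ := exists_even i j
    obtain ⟨c, hc⟩ := exists_perm M hσ
    have h1 := hY.conj_mem _ hi c
    rw [M.conj, hc, hσi] at h1
    have h2 := Y.mul_mem (Y.inv_mem (hzp ((ρ c).s i) ht)) h1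
    rwa [inv_mul_cancel_left] at h2
  rcases M.cover y (hYQ hy) with ⟨a, ha⟩ | ⟨a, i, ha⟩ | ⟨a, i, j, hij, ha⟩
  · exfalso
    rcases zmod2_cases a with rfl | rfl
    · exact hy1 (by rw [ha, zp_zero])
    · exact hyt (by rw [ha, zp_one])
  · obtain ⟨k, hk⟩ : ∃ k : Fin 5, k ≠ i := ⟨i + 1, (by decide : ∀ i : Fin 5, i + 1 ≠ i) i⟩
    have ht : t ∈ Y := by
      refine key y k hy ?_
      rw [ha, hzc, hvt k i hk, ← mul_assoc, ← mul_assoc, ← zp_comm t htc a t]
    refine one i ht ?_ i0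
    rw [ha] at hy
    have h2 := Y.mul_mem (Y.inv_mem (hzp a ht)) hy
    rwa [inv_mul_cancel_left] at h2
  · have hij' : i ≠ j := hij.ne
    have ht : t ∈ Y := by
      refine key y i hy ?_
      have e : v i * (v i * v j) * (v i)⁻¹ = t * (v i * v j) := by
        calc v i * (v i * v j) * (v i)⁻¹ = v i * (v i * v j * (v i)⁻¹) := by group
          _ = v i * (t * v j) := by rw [hvt i j hij']
          _ = (v i * t) * v j := by group
          _ = t * (v i * v j) := by rw [htc]; group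
      rw [ha, hzc, e, ← mul_assoc, ← mul_assoc t, ← zp_comm t htc a t]
    have hp : v i * v j ∈ Y := by
      rw [ha] at hy
      have h2 := Y.mul_mem (Y.inv_mem (hzp a ht)) hy
      rwa [inv_mul_cancel_left] at h2
    have hall : ∀ k l : Fin 5, k ≠ l → v k * v l ∈ Y := by
      intro k l hkl
      obtain ⟨σ, hσ, hσi, hσj⟩ := exists_even_two hij' hkl
      obtain ⟨c, hc⟩ := exists_perm M hσ
      have h1 := hY.conj_mem _ hp c
      have h2 : c * (v i * v j) * c⁻¹ = (zp t ((ρ c).s i) * v k) * (zp t ((ρ c).s j) * v l) := by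
        have h3 := M.conj c i
        have h4 := M.conj c j
        rw [hc, hσi] at h3
        rw [hc, hσj] at h4
        rw [← h3, ← h4]
        group
      rw [h2] at h1
      have h3 : (zp t ((ρ c).s i) * v k) * (zp t ((ρ c).s j) * v l) =
          zp t ((ρ c).s i) * (zp t ((ρ c).s j) * (v k * v l)) := by
        calc (zp t ((ρ c).s i) * v k) * (zp t ((ρ c).s j) * v l) =
            zp t ((ρ c).s i) * ((v k * zp t ((ρ c).s j)) * v l) := by group
          _ = _ := by rw [zp_comm t htc]; group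
      rw [h3] at h1
      have h4 := Y.mul_mem (Y.inv_mem (hzp ((ρ c).s i) ht)) h1
      rw [inv_mul_cancel_left] at h4
      have h5 := Y.mul_mem (Y.inv_mem (hzp ((ρ c).s j) ht)) h4
      rwa [inv_mul_cancel_left] at h5
    have h4 : v 4 ∈ Y := by
      have h5 := Y.inv_mem (Y.mul_mem (hall 0 1 (by decide)) (hall 2 3 (by decide)))
      have h6 : (v 0 * v 1 * (v 2 * v 3))⁻¹ = v 4 := by
        rw [inv_eq_iff_mul_eq_one]
        calc v 0 * v 1 * (v 2 * v 3) * v 4 = v 0 * v 1 * v 2 * v 3 * v 4 := by group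
          _ = 1 := M.v_prod
      rwa [h6] at h5
    exact one 4 ht h4 i0

end model

section main

variable {D : Type u} [Group D] {p : ℕ} {z x : D} {N : Subgroup D} {A : Type v} [Group A]
  {f : ↥(centralizer ({z} : Set D)) →* A} [Finite D] [hp : Fact p.Prime]

/-- **Four anticommuting elements.** -/
theorem fix_le (hp2 : p ≠ 2) (h : M5.Rad p z x N f) {S : Subgroup D} [hS : S.Normal] (hSN : S ≤ N) (hxS : x ∈ S)
    {T : D} (e : Fin 4 → D) (heT : ∀ i, e i * T = T * e i)
    (hsq : ∀ i, ∃ l : ℤ, e i * e i = x ^ l)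
    (hanti : ∀ i j, i ≠ j → ∃ l : ℤ, e i * e j = x ^ l * (z * T) * (e j * e i))
    (hb : Nat.card ↥(S ⊓ centralizer ({T} : Set D)) ∣ p ^ 4) :
    ∀ s ∈ S, T * s = s * T → s ∈ zpowers x := by
  have hZ := h.normalZ
  set q := QuotientGroup.mk' (zpowers x) with hq
  have hqx : ∀ i : ℤ, q (x ^ i) = 1 := fun i => (QuotientGroup.eq_one_iff _).2 (zpow_mem_zpowers x i)
  let W : Subgroup D := S ⊓ centralizer ({T} : Set D)
  have hmT : ∀ s, s ∈ W ↔ s ∈ S ∧ s * T = T * s := by
    intro s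
    show s ∈ S ⊓ centralizer ({T} : Set D) ↔ _
    rw [mem_inf, mem_centralizer_singleton_iff]
  have hcT : ∀ c, c * T = T * c → ∀ s ∈ W, c * s * c⁻¹ ∈ W := by
    intro c hcw s hs'
    obtain ⟨s1, s2⟩ := (hmT s).1 hs'
    have hcwi : c⁻¹ * T = T * c⁻¹ := (show Commute c T from hcw).inv_left
    rw [hmT]
    refine ⟨hS.conj_mem s s1 c, ?_⟩
    calc c * s * c⁻¹ * T = c * s * (c⁻¹ * T) := by group
      _ = c * (s * T) * c⁻¹ := by rw [hcwi]; group
      _ = (c * T) * s * c⁻¹ := by rw [s2]; group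
      _ = _ := by rw [hcw]; group
  have hee : ∀ i j, (e i * e j) * T = T * (e i * e j) := by
    intro i j
    rw [mul_assoc, heT, ← mul_assoc, heT, mul_assoc]
  have hW : W.map q = ⊥ := by
    refine ext_trivial hp2 (W.map q) ?_ ?_ (fun i => q (e i)) ?_ ?_ ?_
    · rintro _ ⟨a, ha, rfl⟩ _ ⟨b, hb', rfl⟩
      obtain ⟨i, hi⟩ := h.comm hp2 (hSN ((hmT a).1 ha).1) (hSN ((hmT b).1 hb').1)
      have h1 : a * b = b * x ^ i * a := by rw [← hi]; group
      rw [← map_mul, h1, map_mul, map_mul, hqx, mul_one, ← map_mul]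
    · have h1 : x ∈ W := (hmT x).2 ⟨hxS, (h.xc _).symm⟩
      have h2 : Nat.card ↥(W.map q) * p = Nat.card ↥W := by
        have h3 := card_eq_card_quotient_mul_card_subgroup ((zpowers x).subgroupOf W)
        have h4 : Nat.card ↥((zpowers x).subgroupOf W) = p := by
          rw [Nat.card_congr (subgroupOfEquivOfLe (zpowers_le.2 h1)).toEquiv, Nat.card_zpowers, h.ox]
        have h5 : Nat.card (↥W ⧸ (zpowers x).subgroupOf W) = Nat.card ↥(W.map q) := by
          let g : ↥W →* ↥(W.map q) := q.subgroupMap W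
          have hg : g.ker = (zpowers x).subgroupOf W := by
            ext s
            rw [MonoidHom.mem_ker, mem_subgroupOf, ← QuotientGroup.eq_one_iff]
            exact Subtype.ext_iff
          rw [← hg]
          exact Nat.card_congr (QuotientGroup.quotientKerEquivOfSurjective g (q.subgroupMap_surjective W)).toEquiv
        rw [h3, h4, h5]
      have h6 : Nat.card ↥(W.map q) * p ∣ p ^ 3 * p := by
        rw [h2, ← pow_succ]
        exact hb
      exact Nat.dvd_of_mul_dvd_mul_right hp.out.pos h6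
    · rintro i _ ⟨s, hs', rfl⟩
      refine ⟨e i * s * (e i)⁻¹, hcT _ (heT i) s hs', ?_⟩
      rw [map_mul, map_mul, map_inv]
    · rintro i _ ⟨s, hs', rfl⟩
      obtain ⟨l, hl⟩ := hsq i
      rw [← map_inv, ← map_mul, ← map_mul, ← map_mul, ← map_mul]
      congr 1
      calc e i * (e i * s * (e i)⁻¹) * (e i)⁻¹ = (e i * e i) * s * (e i * e i)⁻¹ := by group
        _ = x ^ l * s * (x ^ l)⁻¹ := by rw [hl]
        _ = s * x ^ l * (x ^ l)⁻¹ := by rw [h.xzc l s]
        _ = s := by group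
    · rintro i j hij _ ⟨s, hs', rfl⟩
      obtain ⟨l, hl⟩ := hanti i j hij
      obtain ⟨a, ha⟩ : ∃ a, a = e i := ⟨_, rfl⟩
      obtain ⟨b, hb'⟩ : ∃ b, b = e j := ⟨_, rfl⟩
      rw [← ha, ← hb'] at hl ⊢
      have h1 : b * a * s * (b * a)⁻¹ ∈ W := hcT _ (by rw [ha, hb']; exact hee j i) s hs'
      obtain ⟨m, hm⟩ := h.inv hp2 (hSN ((hmT _).1 h1).1)
      have h2 := ((hmT _).1 h1).2
      obtain ⟨s', hs''⟩ : ∃ s', s' = b * a * s * (b * a)⁻¹ := ⟨_, rfl⟩
      rw [← hs''] at hm h2
      have h3 : a * b * s * (a * b)⁻¹ = s'⁻¹ * x ^ m := by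
        rw [hl]
        calc x ^ l * (z * T) * (b * a) * s * (x ^ l * (z * T) * (b * a))⁻¹ =
            x ^ l * (z * T) * s' * T⁻¹ * z⁻¹ * (x ^ l)⁻¹ := by rw [hs'']; group
          _ = x ^ l * z * (T * s') * T⁻¹ * z⁻¹ * (x ^ l)⁻¹ := by group
          _ = x ^ l * (z * s' * z⁻¹) * (x ^ l)⁻¹ := by rw [← h2]; group
          _ = x ^ l * (s'⁻¹ * x ^ m) * (x ^ l)⁻¹ := by rw [hm]
          _ = (s'⁻¹ * x ^ m) * x ^ l * (x ^ l)⁻¹ := by rw [h.xzc l (s'⁻¹ * x ^ m)]
          _ = _ := by group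
      have h4 : a * (b * s * b⁻¹) * a⁻¹ = s'⁻¹ * x ^ m := by rw [← h3]; group
      have h5 : b * (a * s * a⁻¹) * b⁻¹ = s' := by rw [hs'']; group
      rw [← map_inv, ← map_inv, ← map_mul, ← map_mul, ← map_mul, ← map_mul, ← map_mul, ← map_mul, ← map_mul,
        ← map_mul, h4, h5, map_mul, hqx, mul_one, map_inv]
  intro s hs' hsT
  have h1 : q s ∈ W.map q := mem_map_of_mem q ((hmT s).2 ⟨hs', hsT.symm⟩)
  rw [hW] at h1
  exact (QuotientGroup.eq_one_iff s).1 (mem_bot.1 h1)

variable {u' : A} {w : ↥(centralizer ({z} : Set D))} {Q : Subgroup (centralizer ({f w} : Set A))}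
  {v : Fin 5 → centralizer ({f w} : Set A)} {ρ : centralizer ({f w} : Set A) →* SP}

/-- commutators of lifts -/
theorem comm_central {C : Type*} [Group C] {a b k l : C} (hka : k * a = a * k) (hkb : k * b = b * k)
    (hla : l * a = a * l) (hlb : l * b = b * l) (hkl : k * l = l * k) :
    (k * a) * (l * b) * ((l * b) * (k * a))⁻¹ = a * b * (b * a)⁻¹ := by
  have h1 : (k * a) * (l * b) = (k * l) * (a * b) := by
    calc (k * a) * (l * b) = k * (a * l) * b := by group
      _ = k * (l * a) * b := by rw [hla]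
      _ = _ := by group
  have h2 : (l * b) * (k * a) = (k * l) * (b * a) := by
    calc (l * b) * (k * a) = l * (b * k) * a := by group
      _ = l * (k * b) * a := by rw [hkb]
      _ = (l * k) * (b * a) := by group
      _ = _ := by rw [hkl]
  have h3 : Commute (k * l) (a * b * (b * a)⁻¹) := by
    have e1 : Commute k a := hka
    have e2 : Commute k b := hkb
    have e3 : Commute l a := hla
    have e4 : Commute l b := hlb
    have e5 : Commute (k * l) a := e1.mul_left e3
    have e6 : Commute (k * l) b := e2.mul_left e4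
    exact (e5.mul_right e6).mul_right (e6.mul_right e5).inv_right
  rw [h1, h2]
  calc (k * l) * (a * b) * ((k * l) * (b * a))⁻¹ = (k * l) * (a * b * (b * a)⁻¹) * (k * l)⁻¹ := by group
    _ = (a * b * (b * a)⁻¹) * (k * l) * (k * l)⁻¹ := by rw [h3.eq]
    _ = _ := by group

/-- **The commutators of the lifts of the `v i` are equal.** -/
theorem uniform (h : M5.Rad p z x N f)
    (Dt : Dat (f w) u' Q v ρ) {e : Fin 5 → ↥(centralizer ({z} : Set D))} (he : ∀ i, f (e i) = v i)
    {i j k l : Fin 5} (hij : i ≠ j) (hkl : k ≠ l) :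
    e i * e j * (e j * e i)⁻¹ = e k * e l * (e l * e k)⁻¹ := by
  -- elements over `C(t)` commute with `w` and the kernel
  have hcw : ∀ c : ↥(centralizer ({z} : Set D)), f c * f w = f w * f c → c * w = w * c := fun c hc =>
    h.comm_of_perfect Dt.perfect rfl hc
  -- elements over `⟨t⟩` are central in the preimage of `C(t)`
  have hcen : ∀ (k : ↥(centralizer ({z} : Set D))) (a : ZMod 2), f k = zp (f w) a →
      ∀ c : ↥(centralizer ({z} : Set D)), f c * f w = f w * f c → k * c = c * k := by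
    intro k a hk c hc
    rcases zmod2_cases a with rfl | rfl
    · rw [zp_zero] at hk
      exact (h.ker_central hk c).symm
    · rw [zp_one] at hk
      have h1 : f (w⁻¹ * k) = 1 := by rw [map_mul, map_inv, hk, inv_mul_cancel]
      have h2 := h.ker_central h1 c
      have h3 := hcw c hc
      calc k * c = w * (w⁻¹ * k * c) := by group
        _ = w * (c * (w⁻¹ * k)) := by rw [h2]
        _ = (w * c) * (w⁻¹ * k) := by group
        _ = c * k := by rw [← h3]; group
  have hvt : ∀ i, f (e i) * f w = f w * f (e i) := fun i => by rw [he]; exact Dt.vt i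
  obtain ⟨σ, hσ, hσi, hσj⟩ := exists_even_two hij hkl
  obtain ⟨c0, hc0⟩ := exists_perm Dt.M hσ
  obtain ⟨c, hc⟩ := h.surj c0
  have hct : f c * f w = f w * f c := by rw [hc]; exact mem_centralizer_singleton_iff.1 c0.2
  have hzpc : ∀ a : ZMod 2, ((zp (⟨f w, mem_centralizer_singleton_iff.2 rfl⟩ : centralizer ({f w} : Set A)) a : centralizer ({f w} : Set A)) : A) = zp (f w) a := by
    intro a
    rcases zmod2_cases a with rfl | rfl
    · rw [zp_zero, zp_zero]; rfl
    · rw [zp_one, zp_one]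
  have hconj : ∀ i, f (c * e i * c⁻¹ * (e (σ i))⁻¹) = zp (f w) ((ρ c0).s i) := by
    intro i
    have h1 := congrArg Subtype.val (Dt.M.conj c0 i)
    rw [hc0] at h1
    have h2 : (c0 : A) * (v i : A) * (c0 : A)⁻¹ = zp (f w) ((ρ c0).s i) * (v (σ i) : A) := by
      rw [← hzpc]
      exact h1
    rw [map_mul, map_mul, map_mul, map_inv, map_inv, he, he, hc, h2, mul_inv_cancel_right]
  have hζ : f (e i * e j * (e j * e i)⁻¹) = zp (f w) 1 := by
    rw [map_mul, map_mul, map_inv, map_mul, he, he, Dt.v_anti hij, zp_one, mul_inv_cancel_right]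
  obtain ⟨κ, hκ⟩ : ∃ κ, κ = c * e i * c⁻¹ * (e (σ i))⁻¹ := ⟨_, rfl⟩
  obtain ⟨μ, hμ⟩ : ∃ μ, μ = c * e j * c⁻¹ * (e (σ j))⁻¹ := ⟨_, rfl⟩
  have hκf := hconj i
  have hμf := hconj j
  rw [← hκ] at hκf
  rw [← hμ] at hμf
  have hκt : f μ * f w = f w * f μ := by
    rw [hμf]
    rcases zmod2_cases ((ρ c0).s j) with h1 | h1
    · rw [h1, zp_zero, one_mul, mul_one]
    · rw [h1, zp_one]
  have h1 : c * e i * c⁻¹ = κ * e (σ i) := by rw [hκ]; group
  have h2 : c * e j * c⁻¹ = μ * e (σ j) := by rw [hμ]; group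
  have h3 : c * (e i * e j * (e j * e i)⁻¹) * c⁻¹ =
      (κ * e (σ i)) * (μ * e (σ j)) * ((μ * e (σ j)) * (κ * e (σ i)))⁻¹ := by
    rw [← h1, ← h2]
    group
  rw [comm_central (hcen κ _ hκf _ (hvt _)) (hcen κ _ hκf _ (hvt _)) (hcen μ _ hμf _ (hvt _)) (hcen μ _ hμf _ (hvt _))
    (hcen κ _ hκf _ hκt), hσi, hσj] at h3
  rw [← h3, ← hcen _ 1 hζ c hct, mul_inv_cancel_right]

/-- **`|C_S(w)|` and `|C_S(wz)|` do not both divide `p⁴`.** -/
theorem not_both [hA : IsSimpleGroup A] (hAc : ¬ Group.IsSolvable A) (hp2 : p ≠ 2) (h : M5.Rad p z x N f)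
    {S : Subgroup D} [hS : S.Normal] (hSN : S ≤ N) (hxS : x ∈ S) (hs : Group.IsSolvable ↥(centralizer (S : Set D)))
    (Dt : Dat (f w) u' Q v ρ) (hw : (w : D) * w = 1) (hb1 : Nat.card ↥(S ⊓ centralizer ({(w : D)} : Set D)) ∣ p ^ 4)
    (hb2 : Nat.card ↥(S ⊓ centralizer ({(w : D) * z} : Set D)) ∣ p ^ 4) : False := by
  have hwz : (w : D) * z = z * w := mem_centralizer_singleton_iff.1 w.2
  have hwc : (w : D) * z * z = w := by rw [mul_assoc, h.zz, mul_one]
  have hw1 : f w ≠ 1 := Dt.t_ne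
  have hTT : ((w : D) * z) * (w * z) = 1 := by
    calc ((w : D) * z) * (w * z) = w * (z * w) * z := by group
      _ = (w * w) * (z * z) := by rw [← hwz]; group
      _ = 1 := by rw [hw, h.zz, mul_one]
  have hTz : ((w : D) * z) * z = z * (w * z) := by rw [← mul_assoc, ← hwz]
  have hwS : (w : D) ∉ centralizer (S : Set D) := not_mem_cent hAc h hs hw1
  have hfz := h.f_z hAc
  have hTS : (w : D) * z ∉ centralizer (S : Set D) :=
    not_mem_cent hAc h hs (s := w * M5.Rad.zC z) (by rw [map_mul, hfz, mul_one]; exact hw1)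
  have hex : ∀ i : Fin 5, ∃ e : ↥(centralizer ({z} : Set D)), f e = (v i : A) := fun i => h.surj _
  choose e he using hex
  have hew : ∀ i, (e i : D) * w = w * e i := by
    intro i
    have h1 := h.comm_of_perfect Dt.perfect (T := w) rfl (c := e i) (by rw [he]; exact Dt.vt i)
    exact congrArg Subtype.val h1
  have hez : ∀ i, (e i : D) * z = z * e i := fun i => mem_centralizer_singleton_iff.1 (e i).2
  have hsq : ∀ i, ∃ l : ℤ, (e i : D) * e i = x ^ l := by
    intro i
    obtain ⟨l, hl⟩ := h.sq_of_conj (w := w) (s := e i) (by rw [he]; exact Dt.isConj_v i) (by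
      intro g
      have h1 : w * w = 1 := Subtype.ext hw
      rw [h1, mul_one, one_mul])
    exact ⟨l, by rw [hl, hw, one_mul]⟩
  obtain ⟨ζ, hζ⟩ : ∃ ζ, ζ = e 0 * e 1 * (e 1 * e 0)⁻¹ := ⟨_, rfl⟩
  have hζf : f (w⁻¹ * ζ) = 1 := by
    rw [hζ, map_mul, map_inv, map_mul, map_mul, map_inv, map_mul, he, he, Dt.v_anti (by decide : (0 : Fin 5) ≠ 1),
      mul_inv_cancel_right, inv_mul_cancel]
  have huni : ∀ i j : Fin 5, i ≠ j → (e i : D) * e j = ζ * (e j * e i) := by
    intro i j hij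
    have h1 := uniform h Dt he hij (by decide : (0 : Fin 5) ≠ 1)
    rw [← hζ] at h1
    have h2 := congrArg Subtype.val h1
    have h3 : (e i : D) * e j * ((e j : D) * e i)⁻¹ = ζ := h2
    rw [← h3]
    group
  obtain ⟨l, hl | hl⟩ := h.ker _ hζf
  · -- `ζ = w x^l`
    have h1 : (ζ : D) = x ^ l * w := by
      have h2 : (w : D)⁻¹ * ζ = x ^ l := hl
      rw [← h.xzc l w, ← h2]
      group
    apply hwS
    rw [← hwc]
    refine cent_of_fix hp2 h hSN hTT hTz (fix_le hp2 h hSN hxS (fun i : Fin 4 => (e i.castSucc : D)) (fun i => ?_)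
      (fun i => hsq _) (fun i j hij => ⟨l, ?_⟩) hb2)
    · rw [← mul_assoc, hew, mul_assoc, hez, ← mul_assoc]
    · have h2 : z * ((w : D) * z) = w := by rw [← mul_assoc, ← hwz, hwc]
      rw [h2, ← h1]
      exact huni _ _ fun h3 => hij (Fin.castSucc_injective _ h3)
  · -- `ζ = w x^l z`
    have h1 : (ζ : D) = x ^ l * (z * w) := by
      have h2 : (w : D)⁻¹ * ζ = x ^ l * z := hl
      calc (ζ : D) = w * ((w : D)⁻¹ * ζ) := by group
        _ = (w * x ^ l) * z := by rw [h2]; group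
        _ = x ^ l * (w * z) := by rw [h.xzc l w]; group
        _ = _ := by rw [hwz]
    apply hTS
    refine cent_of_fix hp2 h hSN hw hwz (fix_le hp2 h hSN hxS (fun i : Fin 4 => (e i.castSucc : D)) (fun i => hew _)
      (fun i => hsq _) (fun i j hij => ⟨l, ?_⟩) hb1)
    rw [← h1]
    exact huni _ _ fun h3 => hij (Fin.castSucc_injective _ h3)

omit hp in
/-- a nilpotent normal subgroup -/
theorem isPGroup_of_core (hpr : p.Prime) (hcore : pPrimeCore p D = ⊥) {N : Subgroup D} (hN : N.Normal)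
    (hnil : Group.IsNilpotent ↥N) : IsPGroup p ↥N := by
  refine IsPGroup.of_card (n := (Nat.card ↥N).primeFactorsList.length)
    (Nat.eq_prime_pow_of_unique_prime_dvd Nat.card_pos.ne' fun {q} hq hqN => ?_)
  by_contra hne
  have : Fact q.Prime := ⟨hq⟩
  obtain ⟨P⟩ : Nonempty (Sylow q ↥N) := inferInstance
  have hPn : (P : Subgroup ↥N).Normal := inferInstance
  have hPc : (P : Subgroup ↥N).Characteristic := Sylow.characteristic_of_normal P hPn
  have h1 : ((P : Subgroup ↥N).map N.subtype).Normal := ConjAct.normal_of_characteristic_of_normal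
  have h2 : (P : Subgroup ↥N).map N.subtype ≤ pPrimeCore p D := by
    refine Lib.Cores.le_pPrimeCore h1 ?_
    rw [card_map_of_injective N.subtype_injective]
    obtain ⟨n, hn⟩ := IsPGroup.iff_card.1 P.isPGroup'
    rw [hn]
    exact Nat.Coprime.pow_left _ ((Nat.coprime_primes hq hpr).2 hne)
  rw [hcore, le_bot_iff] at h2
  have h3 := (map_eq_bot_iff_of_injective _ N.subtype_injective).1 h2
  have h4 : q ∣ Nat.card ↥(P : Subgroup ↥N) := P.dvd_card_of_dvd_card hqN
  rw [h3, Subgroup.card_bot] at h4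
  exact hq.one_lt.ne' (Nat.dvd_one.1 h4)

/-- **A normal `p'`-subgroup of `C_D(wz)`.** -/
theorem core_cent [hA : IsSimpleGroup A] (hAc : ¬ Group.IsSolvable A) (hp2 : p ≠ 2) (h : M5.Rad p z x N f)
    {S : Subgroup D} [hS : S.Normal] (hSN : S ≤ N) (hxS : x ∈ S) (hs : Group.IsSolvable ↥(centralizer (S : Set D)))
    (Dt : Dat (f w) u' Q v ρ) (hw : (w : D) * w = 1) (hb : Nat.card ↥(S ⊓ centralizer ({(w : D)} : Set D)) ∣ p ^ 4)
    (hcore : pPrimeCore p D = ⊥) {V : Subgroup D} (hVT : ∀ y ∈ V, y * (w * z) = (w * z) * y)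
    (hVn : ∀ c : D, c * (w * z) = (w * z) * c → ∀ y ∈ V, c * y * c⁻¹ ∈ V) (hVp : (Nat.card ↥V).Coprime p) {y : D}
    (hy : y ∈ V) : y = 1 ∨ y = w * z := by
  have hN := h.nN
  have hNp : IsPGroup p ↥N := isPGroup_of_core hp.out hcore hN (h.isNilpotent hp2)
  have hwz : (w : D) * z = z * w := mem_centralizer_singleton_iff.1 w.2
  have hwc : (w : D) * z * z = w := by rw [mul_assoc, h.zz, mul_one]
  have hw1 : f w ≠ 1 := Dt.t_ne
  have hTT : ((w : D) * z) * (w * z) = 1 := by
    calc ((w : D) * z) * (w * z) = w * (z * w) * z := by group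
      _ = (w * w) * (z * z) := by rw [← hwz]; group
      _ = 1 := by rw [hw, h.zz, mul_one]
  have hTz : ((w : D) * z) * z = z * (w * z) := by rw [← mul_assoc, ← hwz]
  have hwS : (w : D) ∉ centralizer (S : Set D) := not_mem_cent hAc h hs hw1
  have hfz := h.f_z hAc
  have hTS : (w : D) * z ∉ centralizer (S : Set D) :=
    not_mem_cent hAc h hs (s := w * M5.Rad.zC z) (by rw [map_mul, hfz, mul_one]; exact hw1)
  -- `V ∩ N = 1`
  have hVN : ∀ a ∈ V, a ∈ N → a = 1 := by
    intro a ha haN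
    obtain ⟨k, hk⟩ := hNp ⟨a, haN⟩
    have h1 : a ^ p ^ k = 1 := congrArg Subtype.val hk
    have h2 : orderOf a ∣ Nat.card ↥V := by
      rw [← Subgroup.orderOf_mk a ha]
      exact orderOf_dvd_natCard _
    exact orderOf_eq_one_iff.1 (Nat.Coprime.eq_one_of_dvd (Nat.Coprime.pow_right k (hVp.coprime_dvd_left h2))
      (orderOf_dvd_of_pow_eq_one h1))
  -- `V` commutes with `z`
  have hVz : ∀ a ∈ V, a * z = z * a := by
    intro a ha
    obtain ⟨n, hn, c, hc, e⟩ := h.sup a
    have h1 : a * (z * a⁻¹ * z⁻¹) ∈ V := V.mul_mem ha (hVn z hTz.symm _ (V.inv_mem ha))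
    have h2 : a * (z * a⁻¹ * z⁻¹) ∈ N := by
      have h3 : a * (z * a⁻¹ * z⁻¹) = n * (z * n⁻¹ * z⁻¹) := by
        rw [e]
        calc n * c * (z * (n * c)⁻¹ * z⁻¹) = n * (c * z) * c⁻¹ * n⁻¹ * z⁻¹ := by group
          _ = n * (z * c) * c⁻¹ * n⁻¹ * z⁻¹ := by rw [hc]
          _ = _ := by group
      rw [h3]
      exact N.mul_mem hn (hN.conj_mem _ (N.inv_mem hn) z)
    have h3 := hVN _ h1 h2
    calc a * z = a * (z * a⁻¹ * z⁻¹) * (z * a) := by group
      _ = z * a := by rw [h3, one_mul]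
  have hVw : ∀ a ∈ V, a * w = w * a := by
    intro a ha
    have h1 := hVT a ha
    have h2 := hVz a ha
    have h3 : a * w * z = w * a * z := by
      calc a * w * z = a * (w * z) := by group
        _ = (w * z) * a := h1
        _ = w * (z * a) := by group
        _ = w * a * z := by rw [← h2]; group
    exact mul_right_cancel h3
  -- `V` commutes with `R`
  have hVR : ∀ a ∈ V, ∀ r ∈ S, r * (w * z) = (w * z) * r → r * a = a * r := by
    intro a ha r hr hrT
    have h1 : r * a * r⁻¹ * a⁻¹ ∈ V := V.mul_mem (hVn r hrT a ha) (V.inv_mem ha)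
    have h2 : r * a * r⁻¹ * a⁻¹ ∈ N := by
      have h3 : r * a * r⁻¹ * a⁻¹ = r * (a * r⁻¹ * a⁻¹) := by group
      rw [h3]
      exact hSN (S.mul_mem hr (hS.conj_mem _ (S.inv_mem hr) a))
    have h3 := hVN _ h1 h2
    calc r * a = r * a * r⁻¹ * a⁻¹ * (a * r) := by group
      _ = a * r := by rw [h3, one_mul]
  -- `z` and `w` do not commute with `R`
  have hzR : ¬ ∀ r ∈ S, r * (w * z) = (w * z) * r → r * z = z * r := by
    intro h1
    apply hwS
    have h2 := cent_of_fix hp2 h hSN hTT hTz (fun s hs' hsT => h.cN s (hSN hs') (h1 s hs' hsT.symm))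
    rwa [hwc] at h2
  have hwR : ¬ ∀ r ∈ S, r * (w * z) = (w * z) * r → r * w = w * r := by
    intro h1
    apply hzR
    intro r hr hrT
    have h2 := h1 r hr hrT
    have h3 : w * (r * z) = w * (z * r) := by
      calc w * (r * z) = (w * r) * z := by group
        _ = r * (w * z) := by rw [← h2]; group
        _ = (w * z) * r := hrT
        _ = w * (z * r) := by group
    exact mul_left_cancel h3
  -- elements of `V` in the kernel
  have hk1 : ∀ c : ↥(centralizer ({z} : Set D)), (c : D) ∈ V → f c = 1 → ∃ i : ℤ, (c : D) = x ^ i := by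
    intro c hc hfc
    obtain ⟨i, hi | hi⟩ := h.ker c hfc
    · exact ⟨i, hi⟩
    · exfalso
      apply hzR
      intro r hr hrT
      have h1 := hVR _ hc r hr hrT
      rw [hi] at h1
      have h2 : x ^ i * (r * z) = x ^ i * (z * r) := by
        calc x ^ i * (r * z) = (x ^ i * r) * z := by group
          _ = r * (x ^ i * z) := by rw [← h.xzc i r]; group
          _ = x ^ i * z * r := h1
          _ = _ := by group
      exact mul_left_cancel h2
  -- elements of `V` over `f w`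
  have hk2 : ∀ c : ↥(centralizer ({z} : Set D)), (c : D) ∈ V → f c = f w → ∃ i : ℤ, (c : D) = x ^ i * (z * w) := by
    intro c hc hfc
    have h0 : f (w⁻¹ * c) = 1 := by rw [map_mul, map_inv, hfc, inv_mul_cancel]
    obtain ⟨i, hi | hi⟩ := h.ker _ h0
    · exfalso
      have hi' : (w : D)⁻¹ * c = x ^ i := hi
      have hc' : (c : D) = x ^ i * w := by
        rw [← h.xzc i w, ← hi']
        group
      apply hwR
      intro r hr hrT
      have h1 := hVR _ hc r hr hrT
      rw [hc'] at h1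
      have h2 : x ^ i * (r * w) = x ^ i * (w * r) := by
        calc x ^ i * (r * w) = (x ^ i * r) * w := by group
          _ = r * (x ^ i * w) := by rw [← h.xzc i r]; group
          _ = x ^ i * w * r := h1
          _ = _ := by group
      exact mul_left_cancel h2
    · have hi' : (w : D)⁻¹ * c = x ^ i * z := hi
      refine ⟨i, ?_⟩
      calc (c : D) = w * ((w : D)⁻¹ * c) := by group
        _ = (w * x ^ i) * z := by rw [hi']; group
        _ = x ^ i * (w * z) := by rw [h.xzc i w]; group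
        _ = _ := by rw [hwz]
  -- the image of `V` in `C_A(f w)`
  let E' : Subgroup ↥(centralizer ({z} : Set D)) := V.subgroupOf (centralizer ({z} : Set D))
  have hE'm : ∀ c, c ∈ E' ↔ (c : D) ∈ V := fun c => mem_subgroupOf
  have hfle : ∀ c ∈ E', f c * f w = f w * f c := by
    intro c hc
    rw [← map_mul, ← map_mul]
    congr 1
    exact Subtype.ext (hVw _ ((hE'm c).1 hc))
  let F : Subgroup ↥(centralizer ({f w} : Set A)) := (E'.map f).subgroupOf (centralizer ({f w} : Set A))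
  have hFn : F.Normal := by
    refine ⟨fun b hb' a => ?_⟩
    obtain ⟨e, he, heb⟩ := mem_subgroupOf.1 hb'
    obtain ⟨c, hc⟩ := h.surj a
    have hac : f c * f w = f w * f c := by rw [hc]; exact mem_centralizer_singleton_iff.1 a.2
    have hcw : (c : D) * w = w * c := congrArg Subtype.val (h.comm_of_perfect Dt.perfect (T := w) rfl hac)
    have hcz : (c : D) * z = z * c := mem_centralizer_singleton_iff.1 c.2
    have hcT : (c : D) * (w * z) = (w * z) * c := by
      rw [← mul_assoc, hcw, mul_assoc, hcz, ← mul_assoc]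
    refine mem_subgroupOf.2 ⟨c * e * c⁻¹, (hE'm _).2 (hVn _ hcT _ ((hE'm e).1 he)), ?_⟩
    rw [map_mul, map_mul, map_inv, heb, hc]
    rfl
  have hfin : Finite A := Finite.of_surjective f h.surj
  have hQs : Group.IsSolvable ↥Q := by
    have : Fact (Nat.Prime 2) := ⟨Nat.prime_two⟩
    have h2 : Group.IsNilpotent ↥Q := (Cfsg.Agent.KFacts.J2.Facts.isPGroup_Q Dt.M).isNilpotent
    exact inferInstance
  rcases normal_cases Dt.M F hQs with hvF | hvF
  · exfalso
    have hex : ∀ i : Fin 5, ∃ e : ↥(centralizer ({z} : Set D)), (e : D) ∈ V ∧ f e = (v i : A) := by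
      intro i
      obtain ⟨e, he, hei⟩ := mem_subgroupOf.1 (hvF i)
      exact ⟨e, (hE'm e).1 he, hei⟩
    choose e heV he using hex
    apply hTS
    refine cent_of_fix hp2 h hSN hw hwz (fix_le hp2 h hSN hxS (fun i : Fin 4 => (e i.castSucc : D))
      (fun i => hVw _ (heV _)) (fun i => ?_) (fun i j hij => ?_) hb)
    · exact hk1 (e i.castSucc * e i.castSucc) (V.mul_mem (heV _) (heV _)) (by rw [map_mul, he, Dt.vv])
    · have hij' : i.castSucc ≠ j.castSucc := fun h3 => hij (Fin.castSucc_injective _ h3)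
      obtain ⟨l, hl⟩ := hk2 (e i.castSucc * e j.castSucc * (e j.castSucc * e i.castSucc)⁻¹)
        (V.mul_mem (V.mul_mem (heV _) (heV _)) (V.inv_mem (V.mul_mem (heV _) (heV _)))) (by
          rw [map_mul, map_mul, map_inv, map_mul, he, he, Dt.v_anti hij', mul_inv_cancel_right])
      refine ⟨l, ?_⟩
      have hl' : (e i.castSucc : D) * e j.castSucc * ((e j.castSucc : D) * e i.castSucc)⁻¹ = x ^ l * (z * w) := hl
      rw [← hl']
      group
  · have hyc : y ∈ centralizer ({z} : Set D) := mem_centralizer_singleton_iff.2 (hVz y hy)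
    have h1 : (⟨f ⟨y, hyc⟩, mem_centralizer_singleton_iff.2 (hfle ⟨y, hyc⟩ hy)⟩ : ↥(centralizer ({f w} : Set A))) ∈ F :=
      mem_subgroupOf.2 ⟨⟨y, hyc⟩, hy, rfl⟩
    rcases hvF _ h1 with h2 | h2
    · left
      obtain ⟨i, hi⟩ := hk1 ⟨y, hyc⟩ hy (congrArg Subtype.val h2)
      have hi' : y = x ^ i := hi
      exact hVN y hy (by rw [hi']; exact N.zpow_mem h.xN i)
    · right
      obtain ⟨i, hi⟩ := hk2 ⟨y, hyc⟩ hy (congrArg Subtype.val h2)
      have hi' : y = x ^ i * (w * z) := by rw [hwz]; exact hi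
      have h3 : y * y = x ^ i * x ^ i := by
        rw [hi']
        calc x ^ i * (w * z) * (x ^ i * (w * z)) = x ^ i * ((w * z) * x ^ i) * (w * z) := by group
          _ = x ^ i * (x ^ i * (w * z)) * (w * z) := by rw [h.xzc i (w * z)]
          _ = x ^ i * x ^ i * ((w * z) * (w * z)) := by group
          _ = _ := by rw [hTT, mul_one]
      have h4 : x ^ i * x ^ i = 1 := by
        rw [← h3]
        refine hVN _ (V.mul_mem hy hy) ?_
        rw [h3]
        exact N.mul_mem (N.zpow_mem h.xN i) (N.zpow_mem h.xN i)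
      rw [hi', h.sq_one hp2 h4, one_mul]

end main

end Cfsg.Agent.H393.BF
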